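import Mathlib
import Groth.Agent.Lib.Helper1.FlatRegularElement

set_option autoImplicit false
universe u

namespace Groth.Agent.Lib.Helper5.Prim
open MvPolynomial

variable {A : Type u} [CommRing A] {n : ℕ}

theorem eq_zero_of_mul_eq_zero_of_primitive (f : MvPolynomial (Fin n) A)
    (hf : Ideal.span (Set.range f.coeff) = ⊤) :
    ∀ (N : ℕ) (g : MvPolynomial (Fin n) A), g.support.card = N → f * g = 0 → g = 0 := by
  classical
  intro N
  induction N using Nat.strong_induction_on with
  | _ N ih =>
  intro g hN hfg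
  by_contra hg
  set m : MonomialOrder (Fin n) := MonomialOrder.lex with hm
  -- every coefficient of f kills g
  have key : ∀ d, coeff d f • g = 0 := by
    by_contra hcon
    push Not at hcon
    obtain ⟨d₁, hd₁⟩ := hcon
    set S : Finset (Fin n →₀ ℕ) := f.support.filter (fun d => coeff d f • g ≠ 0) with hS
    have hd₁S : d₁ ∈ S := by
      rw [hS, Finset.mem_filter, mem_support_iff]
      refine ⟨?_, hd₁⟩
      intro h0
      apply hd₁
      rw [h0, zero_smul]
    obtain ⟨d₀, hd₀S, hmax⟩ := Finset.exists_max_image S m.toSyn ⟨d₁, hd₁S⟩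
    have hd₀ : coeff d₀ f • g ≠ 0 := (Finset.mem_filter.mp hd₀S).2
    have hbig : ∀ d, m.toSyn d₀ < m.toSyn d → coeff d f • g = 0 := by
      intro d hd
      by_contra hne
      have hdS : d ∈ S := by
        rw [hS, Finset.mem_filter, mem_support_iff]
        refine ⟨?_, hne⟩
        intro h0
        apply hne
        rw [h0, zero_smul]
      exact absurd (hmax d hdS) (not_le.mpr hd)
    set e := m.degree g with he
    have hsum : ∑ x ∈ Finset.HasAntidiagonal.antidiagonal (d₀ + e), coeff x.1 f * coeff x.2 g =
        coeff d₀ f * coeff e g := by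
      apply Finset.sum_eq_single (d₀, e)
      · rintro ⟨x, y⟩ hxy hne
        rw [Finset.HasAntidiagonal.mem_antidiagonal] at hxy
        simp only at hxy
        rcases lt_trichotomy (m.toSyn x) (m.toSyn d₀) with hlt | heq | hgt
        · have : m.toSyn (m.degree g) < m.toSyn y := by
            rw [← he]
            by_contra hle
            rw [not_lt] at hle
            have h2 : m.toSyn x + m.toSyn y < m.toSyn d₀ + m.toSyn e :=
              add_lt_add_of_lt_of_le hlt hle
            rw [← map_add, ← map_add, hxy] at h2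
            exact lt_irrefl _ h2
          change coeff x f * coeff y g = 0
          rw [m.coeff_eq_zero_of_lt this, mul_zero]
        · have hx : x = d₀ := m.toSyn.injective heq
          subst hx
          have hy : y = e := add_left_cancel hxy
          subst hy
          exact absurd rfl hne
        · have := hbig x hgt
          have h3 := congrArg (coeff y) this
          rw [coeff_smul, coeff_zero, smul_eq_mul] at h3
          exact h3
      · intro hnot
        exfalso
        apply hnot
        rw [Finset.HasAntidiagonal.mem_antidiagonal]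
    have hprod : coeff d₀ f * coeff e g = 0 := by
      have h1 : coeff (d₀ + e) (f * g) = 0 := by rw [hfg, coeff_zero]
      rw [coeff_mul, hsum] at h1
      exact h1
    set g' := coeff d₀ f • g with hg'
    have hsupp : g'.support ⊆ g.support.erase e := by
      intro y hy
      rw [mem_support_iff, hg', coeff_smul, smul_eq_mul] at hy
      rw [Finset.mem_erase, mem_support_iff]
      refine ⟨?_, ?_⟩
      · rintro rfl
        exact hy hprod
      · intro h0
        apply hy
        rw [h0, mul_zero]
    have he_mem : e ∈ g.support := m.degree_mem_support hg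
    have hcard : g'.support.card < N := by
      calc g'.support.card ≤ (g.support.erase e).card := Finset.card_le_card hsupp
        _ < g.support.card := Finset.card_erase_lt_of_mem he_mem
        _ = N := hN
    have hfg' : f * g' = 0 := by
      rw [hg', mul_smul_comm, hfg, smul_zero]
    exact hd₀ (ih _ hcard g' rfl hfg')
  -- hence 1 kills g
  have hle : Ideal.span (Set.range f.coeff) ≤ LinearMap.ker (LinearMap.toSpanSingleton A _ g) := by
    rw [Ideal.span_le]
    rintro _ ⟨d, rfl⟩
    simp only [SetLike.mem_coe, LinearMap.mem_ker, LinearMap.toSpanSingleton_apply]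
    exact key d
  rw [hf] at hle
  have h1 : (1 : A) ∈ LinearMap.ker (LinearMap.toSpanSingleton A _ g) := hle Submodule.mem_top
  rw [LinearMap.mem_ker, LinearMap.toSpanSingleton_apply, one_smul] at h1
  exact hg h1

theorem mem_nonZeroDivisors_of_primitive (f : MvPolynomial (Fin n) A)
    (hf : Ideal.span (Set.range f.coeff) = ⊤) : f ∈ nonZeroDivisors (MvPolynomial (Fin n) A) := by
  rw [mem_nonZeroDivisors_iff_right]
  intro g hg
  rw [mul_comm] at hg
  exact eq_zero_of_mul_eq_zero_of_primitive f hf _ g rfl hg

open TensorProduct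

/-- `1 ⊗ t = 0` in `(R/I) ⊗ S` iff `t ∈ I S`. -/
theorem one_tmul_eq_zero_iff {R S : Type*} [CommRing R] [CommRing S] [Algebra R S] (I : Ideal R)
    (t : S) : (1 : R ⧸ I) ⊗ₜ[R] t = 0 ↔ t ∈ I.map (algebraMap R S) := by
  rw [← (TensorProduct.quotTensorEquivQuotSMul S I).map_eq_zero_iff,
    TensorProduct.quotTensorEquivQuotSMul_mk_one_tmul, Submodule.Quotient.mk_eq_zero,
    Ideal.smul_top_eq_map]
  rfl

theorem one_tmul_surjective {R S : Type*} [CommRing R] [CommRing S] [Algebra R S] (I : Ideal R)
    (y : (R ⧸ I) ⊗[R] S) : ∃ s : S, y = (1 : R ⧸ I) ⊗ₜ[R] s := by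
  induction y using TensorProduct.induction_on with
  | zero => exact ⟨0, by simp⟩
  | add y₁ y₂ h₁ h₂ =>
    obtain ⟨s₁, rfl⟩ := h₁
    obtain ⟨s₂, rfl⟩ := h₂
    exact ⟨s₁ + s₂, by rw [tmul_add]⟩
  | tmul a s =>
    obtain ⟨r, rfl⟩ := Ideal.Quotient.mk_surjective a
    refine ⟨r • s, ?_⟩
    rw [TensorProduct.tmul_smul, TensorProduct.smul_tmul']
    congr 1
    rw [Algebra.smul_def, mul_one]
    rfl

theorem primitive_map (f : MvPolynomial (Fin n) A)
    (hf : Ideal.span (Set.range f.coeff) = ⊤) (a : Ideal A) :
    Ideal.span (Set.range (MvPolynomial.map (Ideal.Quotient.mk a) f).coeff) = ⊤ := by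
  have : Set.range (MvPolynomial.map (Ideal.Quotient.mk a) f).coeff =
      (Ideal.Quotient.mk a) '' (Set.range f.coeff) := by
    ext x
    simp only [Set.mem_range, Set.mem_image, exists_exists_eq_and]
    constructor
    · rintro ⟨d, rfl⟩
      exact ⟨d, (MvPolynomial.coeff_map _ _ _).symm⟩
    · rintro ⟨d, rfl⟩
      exact ⟨d, MvPolynomial.coeff_map _ _ _⟩
  rw [this, ← Ideal.map_span, hf, Ideal.map_top]

theorem flat_quotient_of_primitive (f : MvPolynomial (Fin n) A)
    (hf : Ideal.span (Set.range f.coeff) = ⊤) :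
    Module.Flat A (MvPolynomial (Fin n) A ⧸ Ideal.span ({f} : Set (MvPolynomial (Fin n) A))) := by
  let u : MvPolynomial (Fin n) A →ₗ[A] MvPolynomial (Fin n) A := LinearMap.mulLeft A f
  let π : MvPolynomial (Fin n) A →ₗ[A] (MvPolynomial (Fin n) A ⧸ Ideal.span {f}) :=
    (Ideal.Quotient.mkₐ A (Ideal.span {f})).toLinearMap
  have hπ : Function.Surjective π := Ideal.Quotient.mk_surjective
  have hex : Function.Exact u π := by
    intro x
    change Ideal.Quotient.mk _ x = 0 ↔ _
    rw [Ideal.Quotient.eq_zero_iff_mem, Ideal.mem_span_singleton']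
    constructor
    · rintro ⟨b, rfl⟩; exact ⟨b, mul_comm _ _⟩
    · rintro ⟨b, rfl⟩; exact ⟨b, mul_comm _ _⟩
  refine Groth.Agent.H1.flat_of_forall_lTensor_quotient_injective u π hex hπ ?_
  intro a
  rw [injective_iff_map_eq_zero]
  intro y hy
  obtain ⟨s, rfl⟩ := one_tmul_surjective a y
  rw [LinearMap.lTensor_tmul, one_tmul_eq_zero_iff] at hy
  rw [one_tmul_eq_zero_iff]
  change f * s ∈ Ideal.map (MvPolynomial.C) a at hy
  change s ∈ Ideal.map (MvPolynomial.C) a
  rw [MvPolynomial.mem_map_C_iff] at hy ⊢
  have h0 : MvPolynomial.map (Ideal.Quotient.mk a) f * MvPolynomial.map (Ideal.Quotient.mk a) s = 0 := by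
    rw [← map_mul]
    ext d
    rw [MvPolynomial.coeff_map, MvPolynomial.coeff_zero, Ideal.Quotient.eq_zero_iff_mem]
    exact hy d
  have h1 := eq_zero_of_mul_eq_zero_of_primitive _ (primitive_map f hf a) _ _ rfl h0
  intro d
  have h2 := congrArg (MvPolynomial.coeff d) h1
  rw [MvPolynomial.coeff_map, MvPolynomial.coeff_zero, Ideal.Quotient.eq_zero_iff_mem] at h2
  exact h2

theorem main7766 (f : MvPolynomial (Fin n) A) (hf : Ideal.span (Set.range f.coeff) = ⊤) :
    f ∈ nonZeroDivisors (MvPolynomial (Fin n) A) ∧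
      Module.Flat A (MvPolynomial (Fin n) A ⧸ Ideal.span ({f} : Set (MvPolynomial (Fin n) A))) :=
  ⟨mem_nonZeroDivisors_of_primitive f hf, flat_quotient_of_primitive f hf⟩

end Groth.Agent.Lib.Helper5.Prim
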